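import Mathlib
import Cfsg.Prelude.Def_GeometricClasses

/-!
# QSim (S5981), package [INV]: tools

Orthogonal basis of a nondegenerate quadratic form (odd characteristic), the finishing lemma,
eigenbasis of an endomorphism with `x² = l²`, conjugacy of endomorphisms with `x² = z`,
`z` a non-square.
-/

set_option autoImplicit false

namespace Cfsg.Agent.Lib.Helper97.QSim

open Polynomial Module

/-- `2 ≠ 0` in a finite field of odd order. -/
theorem two_ne_zero_of_odd_card {F : Type*} [Field F] [Fintype F] (h : Odd (Fintype.card F)) :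
    (2 : F) ≠ 0 := by
  intro h2
  have hc : ringChar F = 2 := by
    have hd : ringChar F ∣ 2 := (ringChar.spec F 2).mp (by exact_mod_cast h2)
    have hp : (ringChar F).Prime := CharP.char_is_prime F (ringChar F)
    exact (Nat.prime_dvd_prime_iff_eq hp Nat.prime_two).mp hd
  have h3 := FiniteField.even_card_iff_char_two.mp hc
  have h4 := Nat.odd_iff.mp h
  omega

/-- Binary diagonal forms over finite fields of odd order are universal. -/
theorem binary_rep {F : Type*} [Field F] [Fintype F] (hF : Odd (Fintype.card F)) (a b z : F)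
    (ha : a ≠ 0) (hb : b ≠ 0) : ∃ x y : F, a * x ^ 2 + b * y ^ 2 = z := by
  classical
  have hf : (C a * X ^ 2 : F[X]).degree = 2 := degree_C_mul_X_pow 2 ha
  have hg : (C b * X ^ 2 - C z : F[X]).degree = 2 := by
    have h1 : (C z : F[X]).degree < (C b * X ^ 2 : F[X]).degree := by
      rw [degree_C_mul_X_pow 2 hb]
      exact lt_of_le_of_lt degree_C_le (by norm_num)
    rw [degree_sub_eq_left_of_degree_lt h1]
    exact degree_C_mul_X_pow 2 hb
  obtain ⟨x, y, hxy⟩ := FiniteField.exists_root_sum_quadratic hf hg (Nat.odd_iff.mp hF)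
  refine ⟨x, y, ?_⟩
  simp only [Polynomial.eval_mul, Polynomial.eval_C, Polynomial.eval_pow, Polynomial.eval_X,
    Polynomial.eval_sub] at hxy
  linear_combination hxy

section orth

variable {F : Type*} [Field F] {n : ℕ}

/-- (T1) an orthogonal basis, indexed by any type equivalent to `Fin n`. -/
theorem orth_basis (Q : (Fin n → F) → F) (h2 : (2 : F) ≠ 0)
    (hQ : Cfsg.Geo.IsNondegenerateQuadraticForm Q) {κ : Type*} [Fintype κ] (e : Fin n ≃ κ) :
    ∃ (b : Basis κ F (Fin n → F)) (a : κ → F), (∀ k, a k ≠ 0) ∧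
      ∀ τ : κ → F, Q (∑ k, τ k • b k) = ∑ k, a k * τ k ^ 2 := by
  classical
  letI : Invertible (2 : F) := invertibleOfNonzero h2
  let B : LinearMap.BilinForm F (Fin n → F) :=
    LinearMap.mk₂ F (QuadraticMap.polar Q) hQ.polar_bilinear.add_left
      (fun c x v => by rw [hQ.polar_bilinear.smul_left]; rfl) hQ.polar_bilinear.add_right
      (fun c v x => by rw [hQ.polar_bilinear.smul_right]; rfl)
  have hBapp : ∀ u v, B u v = QuadraticMap.polar Q u v := fun u v => rfl
  have hsymm : B.IsSymm := LinearMap.BilinForm.isSymm_def.mpr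
    (fun u v => by rw [hBapp, hBapp, QuadraticMap.polar_comm])
  obtain ⟨v, hv⟩ := LinearMap.BilinForm.exists_orthogonal_basis
    (LinearMap.BilinForm.isSymm_iff.mp hsymm)
  have hfr : finrank F (Fin n → F) = n := Module.finrank_fin_fun F
  let b : Basis κ F (Fin n → F) := v.reindex ((finCongr hfr).trans e)
  have horth : ∀ i j, i ≠ j → QuadraticMap.polar Q (b i) (b j) = 0 := by
    intro i j hij
    have h1 : B (v (((finCongr hfr).trans e).symm i)) (v (((finCongr hfr).trans e).symm j)) = 0 :=
      hv (fun h => hij (((finCongr hfr).trans e).symm.injective h))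
    show QuadraticMap.polar Q (v.reindex ((finCongr hfr).trans e) i)
      (v.reindex ((finCongr hfr).trans e) j) = 0
    rw [Basis.reindex_apply, Basis.reindex_apply]
    exact h1
  have hQ0 : Q 0 = 0 := by
    have := hQ.smul 0 0
    simpa using this
  have hQadd : ∀ u w, Q (u + w) = Q u + Q w + QuadraticMap.polar Q u w := by
    intro u w; unfold QuadraticMap.polar; ring
  have hsum : ∀ (s : Finset κ) (τ : κ → F),
      Q (∑ k ∈ s, τ k • b k) = ∑ k ∈ s, Q (b k) * τ k ^ 2 := by
    intro s τ
    induction s using Finset.induction_on with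
    | empty => simp [hQ0]
    | insert j s hj ih =>
      rw [Finset.sum_insert hj, Finset.sum_insert hj, hQadd, ih, hQ.smul]
      have h0 : QuadraticMap.polar Q (τ j • b j) (∑ k ∈ s, τ k • b k) = 0 := by
        rw [← hBapp, map_sum]
        apply Finset.sum_eq_zero
        intro k hk
        have hjk : j ≠ k := by rintro rfl; exact hj hk
        rw [hBapp, hQ.polar_bilinear.smul_left, hQ.polar_bilinear.smul_right, horth j k hjk]
        simp
      rw [h0]; ring
  refine ⟨b, fun k => Q (b k), ?_, fun τ => hsum Finset.univ τ⟩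
  intro k hk0
  have hk : Q (b k) = 0 := hk0
  have hne : b k ≠ 0 := b.ne_zero k
  obtain ⟨w, hw⟩ := (hQ.nondegenerate (b k) hne).2
  apply hw
  have hB0 : B (b k) = 0 := by
    apply b.ext
    intro j
    by_cases hjk : k = j
    · subst hjk
      rw [hBapp]
      have h4 : Q ((2 : F) • b k) = 2 ^ 2 * Q (b k) := hQ.smul 2 (b k)
      unfold QuadraticMap.polar
      rw [← two_smul F (b k), h4, hk]; simp
    · rw [hBapp, horth k j hjk]; simp
  have h3 := congrArg (fun f => f w) hB0
  simpa [hBapp] using h3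

/-- The finishing lemma. -/
theorem fin_l (Q : (Fin n → F) → F) {κ : Type*} [Fintype κ] [DecidableEq κ]
    (b : Basis κ F (Fin n → F)) (a : κ → F)
    (hform : ∀ τ : κ → F, Q (∑ k, τ k • b k) = ∑ k, a k * τ k ^ 2)
    (xl : (Fin n → F) →ₗ[F] (Fin n → F)) (z : F) (Ym : Matrix κ κ F)
    (hsim : ∀ τ : κ → F, ∑ k, a k * (Ym.mulVec τ) k ^ 2 = z * ∑ k, a k * τ k ^ 2)
    (E₀ : (Fin n → F) ≃ₗ[F] (Fin n → F))
    (hE : ∀ v, xl (E₀ v) = E₀ (Matrix.toLin b b Ym v))
    (hC : ∀ d : F, d ≠ 0 → ∃ C : Matrix κ κ F, C * Ym = Ym * C ∧ C.det = d) :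
    ∃ Gl yl : (Fin n → F) →ₗ[F] (Fin n → F), LinearMap.det Gl = 1 ∧ xl ∘ₗ Gl = Gl ∘ₗ yl ∧
      ∀ v, Q (yl v) = z * Q v := by
  have hdet : LinearMap.det (E₀ : (Fin n → F) →ₗ[F] (Fin n → F)) ≠ 0 :=
    (LinearEquiv.isUnit_det' E₀).ne_zero
  obtain ⟨C, hCY, hCd⟩ := hC _ (inv_ne_zero hdet)
  refine ⟨(E₀ : (Fin n → F) →ₗ[F] (Fin n → F)) ∘ₗ Matrix.toLin b b C, Matrix.toLin b b Ym,
    ?_, ?_, ?_⟩
  · rw [LinearMap.det_comp, LinearMap.det_toLin, hCd, mul_inv_cancel₀ hdet]
  · refine LinearMap.ext fun v => ?_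
    simp only [LinearMap.comp_apply, LinearEquiv.coe_coe]
    rw [hE]
    congr 1
    have h1 := congrArg (fun M => Matrix.toLin b b M v) hCY
    simp only [Matrix.toLin_mul b b b, LinearMap.comp_apply] at h1
    exact h1.symm
  · intro v
    have hv : v = ∑ k, (b.repr v k) • b k := (b.sum_repr v).symm
    have h1 : Matrix.toLin b b Ym v = ∑ k, (Ym.mulVec (b.repr v)) k • b k :=
      Matrix.toLin_apply b b Ym v
    rw [h1, hform, hsim, ← hform, ← hv]

end orth

section eig

variable {F : Type*} [Field F] {V : Type*} [AddCommGroup V] [Module F V] [FiniteDimensional F V]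

/-- An eigenbasis of an endomorphism with `x² = l²`, `l ≠ 0`, `2 ≠ 0`. -/
theorem eig_basis (x : V →ₗ[F] V) (l : F) (hl : l ≠ 0) (h2 : (2 : F) ≠ 0)
    (hx : ∀ v, x (x v) = (l * l) • v) :
    ∃ (a b : ℕ) (c : Basis (Fin a ⊕ Fin b) F V),
      (∀ i, x (c (Sum.inl i)) = l • c (Sum.inl i)) ∧
      (∀ j, x (c (Sum.inr j)) = (-l) • c (Sum.inr j)) := by
  classical
  let P : Submodule F V := LinearMap.ker (x - l • LinearMap.id)
  let M : Submodule F V := LinearMap.ker (x + l • LinearMap.id)
  have hP : ∀ v, v ∈ P ↔ x v = l • v := by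
    intro v
    simp only [P, LinearMap.mem_ker, LinearMap.sub_apply, LinearMap.smul_apply, LinearMap.id_apply,
      sub_eq_zero]
  have hM : ∀ v, v ∈ M ↔ x v = (-l) • v := by
    intro v
    simp only [M, LinearMap.mem_ker, LinearMap.add_apply, LinearMap.smul_apply, LinearMap.id_apply,
      neg_smul]
    exact add_eq_zero_iff_eq_neg
  have h2l : (2 * l : F) ≠ 0 := mul_ne_zero h2 hl
  have hc : IsCompl P M := by
    constructor
    · rw [Submodule.disjoint_def]
      intro v hvP hvM
      rw [hP] at hvP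
      rw [hM] at hvM
      have h3 : (2 * l) • v = 0 := by
        have h4 : l • v = (-l) • v := hvP.symm.trans hvM
        rw [neg_smul] at h4
        rw [mul_smul, two_smul]
        nth_rewrite 2 [h4]
        exact add_neg_cancel _
      exact (smul_eq_zero.mp h3).resolve_left h2l
    · rw [Submodule.codisjoint_iff_exists_add_eq]
      intro v
      refine ⟨(2 * l)⁻¹ • (x v + l • v), (-(2 * l)⁻¹) • (x v - l • v), ?_, ?_, ?_⟩
      · refine P.smul_mem _ ((hP _).mpr ?_)
        rw [map_add, map_smul, hx, smul_add, mul_smul, add_comm]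
      · refine M.smul_mem _ ((hM _).mpr ?_)
        rw [map_sub, map_smul, hx, neg_smul, smul_sub, mul_smul, neg_sub]
      · rw [neg_smul, ← sub_eq_add_neg, ← smul_sub]
        have : x v + l • v - (x v - l • v) = (2 * l) • v := by
          rw [mul_smul, two_smul]; abel
        rw [this, smul_smul, inv_mul_cancel₀ h2l, one_smul]
  let bP := Module.finBasis F P
  let bM := Module.finBasis F M
  let c : Basis (Fin (finrank F P) ⊕ Fin (finrank F M)) F V :=
    (bP.prod bM).map (Submodule.prodEquivOfIsCompl P M hc)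
  have hcl : ∀ i, c (Sum.inl i) = (bP i : V) := by
    intro i
    simp [c, Submodule.coe_prodEquivOfIsCompl']
  have hcr : ∀ j, c (Sum.inr j) = (bM j : V) := by
    intro j
    simp [c, Submodule.coe_prodEquivOfIsCompl']
  refine ⟨_, _, c, fun i => ?_, fun j => ?_⟩
  · rw [hcl]; exact (hP _).mp (bP i).2
  · rw [hcr]; exact (hM _).mp (bM j).2

end eig

section conj

/-- Two finite-dimensional modules over a finite-dimensional field extension `K / F` of the same
`F`-dimension are `K`-isomorphic. -/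
theorem conj_of_algHom {F K : Type*} [Field F] [Field K] [Algebra F K] [FiniteDimensional F K]
    {V W : Type*} [AddCommGroup V] [Module F V] [AddCommGroup W] [Module F W]
    [FiniteDimensional F V] [FiniteDimensional F W]
    (φ : K →ₐ[F] Module.End F V) (ψ : K →ₐ[F] Module.End F W)
    (hd : finrank F V = finrank F W) :
    ∃ e : V ≃ₗ[F] W, ∀ (k : K) (v : V), e (φ k v) = ψ k (e v) := by
  letI mV : Module K V := Module.compHom V (φ : K →+* Module.End F V)
  letI mW : Module K W := Module.compHom W (ψ : K →+* Module.End F W)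
  haveI tV : IsScalarTower F K V := ⟨fun a k v => by
    show φ (a • k) v = a • φ k v
    rw [map_smul]; rfl⟩
  haveI tW : IsScalarTower F K W := ⟨fun a k v => by
    show ψ (a • k) v = a • ψ k v
    rw [map_smul]; rfl⟩
  haveI : Module.Finite K V := Module.Finite.of_restrictScalars_finite F K V
  haveI : Module.Finite K W := Module.Finite.of_restrictScalars_finite F K W
  have h1 := Module.finrank_mul_finrank F K V
  have h2 := Module.finrank_mul_finrank F K W
  have hK : 0 < finrank F K := Module.finrank_pos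
  have h3 : finrank K V = finrank K W := by
    apply Nat.eq_of_mul_eq_mul_left hK
    rw [h1, h2, hd]
  let e' : V ≃ₗ[K] W := LinearEquiv.ofFinrankEq V W h3
  refine ⟨e'.restrictScalars F, fun k v => ?_⟩
  show e' (k • v) = k • e' v
  exact e'.map_smul k v

/-- Two endomorphisms with `x² = z = y²`, `z` a non-square, on spaces of the same dimension, are
conjugate. -/
theorem conj_of_sq {F : Type*} [Field F] {V W : Type*} [AddCommGroup V] [Module F V]
    [AddCommGroup W] [Module F W] [FiniteDimensional F V] [FiniteDimensional F W]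
    (x : V →ₗ[F] V) (y : W →ₗ[F] W) (z : F) (hz : ¬ IsSquare z)
    (hx : x * x = z • 1) (hy : y * y = z • 1)
    (hd : finrank F V = finrank F W) :
    ∃ e : V ≃ₗ[F] W, ∀ v, e (x v) = y (e v) := by
  classical
  have hirr : Irreducible (X ^ 2 - C z : F[X]) :=
    X_pow_sub_C_irreducible_of_prime Nat.prime_two (fun b hb => hz ⟨b, by rw [← hb, pow_two]⟩)
  haveI : Fact (Irreducible (X ^ 2 - C z : F[X])) := ⟨hirr⟩
  have hne : (X ^ 2 - C z : F[X]) ≠ 0 := hirr.ne_zero
  haveI : FiniteDimensional F (AdjoinRoot (X ^ 2 - C z : F[X])) :=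
    (AdjoinRoot.powerBasis hne).finite
  have hxa : ∀ a ∈ Ideal.span {(X ^ 2 - C z : F[X])}, aeval x a = 0 := by
    intro a ha
    obtain ⟨b, rfl⟩ := Ideal.mem_span_singleton.mp ha
    have h0 : aeval x (X ^ 2 - C z : F[X]) = 0 := by
      rw [map_sub, map_pow, aeval_X, aeval_C, pow_two, hx, Algebra.algebraMap_eq_smul_one,
        sub_self]
    rw [map_mul, h0, zero_mul]
  have hya : ∀ a ∈ Ideal.span {(X ^ 2 - C z : F[X])}, aeval y a = 0 := by
    intro a ha
    obtain ⟨b, rfl⟩ := Ideal.mem_span_singleton.mp ha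
    have h0 : aeval y (X ^ 2 - C z : F[X]) = 0 := by
      rw [map_sub, map_pow, aeval_X, aeval_C, pow_two, hy, Algebra.algebraMap_eq_smul_one,
        sub_self]
    rw [map_mul, h0, zero_mul]
  let φ : AdjoinRoot (X ^ 2 - C z : F[X]) →ₐ[F] Module.End F V :=
    Ideal.Quotient.liftₐ (Ideal.span {(X ^ 2 - C z : F[X])}) (aeval x) hxa
  let ψ : AdjoinRoot (X ^ 2 - C z : F[X]) →ₐ[F] Module.End F W :=
    Ideal.Quotient.liftₐ (Ideal.span {(X ^ 2 - C z : F[X])}) (aeval y) hya
  have hφ : φ (AdjoinRoot.root (X ^ 2 - C z : F[X])) = x := by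
    have h : φ (AdjoinRoot.root (X ^ 2 - C z : F[X])) = aeval x (X : F[X]) := rfl
    rw [h, aeval_X]
  have hψ : ψ (AdjoinRoot.root (X ^ 2 - C z : F[X])) = y := by
    have h : ψ (AdjoinRoot.root (X ^ 2 - C z : F[X])) = aeval y (X : F[X]) := rfl
    rw [h, aeval_X]
  obtain ⟨e, he⟩ := conj_of_algHom φ ψ hd
  refine ⟨e, fun v => ?_⟩
  have := he (AdjoinRoot.root (X ^ 2 - C z : F[X])) v
  rwa [hφ, hψ] at this

end conj

end Cfsg.Agent.Lib.Helper97.QSim
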