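import Mathlib
import Cfsg.Prelude.Def_GeometricClasses
import Cfsg.Agent.Lib.Helper58.QSim.Defs
import Cfsg.Agent.Lib.Helper97.QSim.InvTools

/-!
# QSim (S5981), package [INV]

Every `x ∈ SL_n(q)`, `q` odd, with `x²` scalar is `SL_n`-conjugate into the similarity group of
a nondegenerate quadratic form.
-/

set_option autoImplicit false
open scoped MatrixGroups Matrix

namespace Cfsg.Agent.Lib.Helper97.QSim

open Module

universe u

section blocks

variable {F : Type*} [Field F]

/-- The `2 × 2` block of the model similarity. -/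
def blk (s t δ : F) : Matrix (Fin 2) (Fin 2) F := !![s, t * δ; t, -s]

theorem blk_mul_self (s t δ z : F) (h : s ^ 2 + δ * t ^ 2 = z) :
    blk s t δ * blk s t δ = z • (1 : Matrix (Fin 2) (Fin 2) F) := by
  ext i k
  fin_cases i <;> fin_cases k <;>
    simp [blk, Matrix.mul_apply, Fin.sum_univ_two] <;>
    first | linear_combination h | ring

theorem blockDiag_mulVec {m : ℕ} (M : Fin m → Matrix (Fin 2) (Fin 2) F)
    (τ : Fin 2 × Fin m → F) (k : Fin 2) (j : Fin m) :
    (Matrix.blockDiagonal M *ᵥ τ) (k, j) = M j k 0 * τ (0, j) + M j k 1 * τ (1, j) := by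
  simp [Matrix.mulVec, dotProduct, Fintype.sum_prod_type, Matrix.blockDiagonal_apply,
    Fin.sum_univ_two]

end blocks

/-- The model similarity in the non-square case, at the level of coordinates. -/
theorem caseB_model {F : Type*} [Field F] [Fintype F] (hodd : Odd (Fintype.card F)) {m : ℕ}
    (hm : 0 < m) (a : Fin 2 × Fin m → F) (ha : ∀ k, a k ≠ 0) (z : F) (hz : z ≠ 0) :
    ∃ Ym : Matrix (Fin 2 × Fin m) (Fin 2 × Fin m) F, Ym * Ym = z • 1 ∧
      (∀ τ : Fin 2 × Fin m → F, ∑ k, a k * (Ym *ᵥ τ) k ^ 2 = z * ∑ k, a k * τ k ^ 2) ∧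
      (∀ d : F, d ≠ 0 →
        ∃ C : Matrix (Fin 2 × Fin m) (Fin 2 × Fin m) F, C * Ym = Ym * C ∧ C.det = d) := by
  classical
  have hst : ∀ j : Fin m, ∃ s t : F, s ^ 2 + (a (1, j) / a (0, j)) * t ^ 2 = z := by
    intro j
    obtain ⟨s, t, h⟩ := binary_rep hodd 1 (a (1, j) / a (0, j)) z one_ne_zero
      (div_ne_zero (ha _) (ha _))
    exact ⟨s, t, by linear_combination h⟩
  choose s t hst using hst
  refine ⟨Matrix.blockDiagonal (fun j => blk (s j) (t j) (a (1, j) / a (0, j))), ?_, ?_, ?_⟩
  · rw [← Matrix.blockDiagonal_mul]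
    have h0 : (fun j => blk (s j) (t j) (a (1, j) / a (0, j)) *
        blk (s j) (t j) (a (1, j) / a (0, j))) =
        z • (1 : Fin m → Matrix (Fin 2) (Fin 2) F) :=
      funext fun j => blk_mul_self _ _ _ _ (hst j)
    rw [h0, Matrix.blockDiagonal_smul, Matrix.blockDiagonal_one]
  · intro τ
    rw [Fintype.sum_prod_type_right, Fintype.sum_prod_type_right, Finset.mul_sum]
    apply Finset.sum_congr rfl
    intro j _
    rw [Fin.sum_univ_two, Fin.sum_univ_two, blockDiag_mulVec, blockDiag_mulVec]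
    have hδ : a (1, j) = (a (1, j) / a (0, j)) * a (0, j) := by
      rw [div_mul_cancel₀ _ (ha _)]
    have h1 := hst j
    generalize a (1, j) / a (0, j) = δ at hδ h1 ⊢
    rw [hδ, ← h1]
    simp [blk]
    ring
  · intro d hd
    obtain ⟨u, w, huw⟩ := binary_rep hodd 1 (-z) d one_ne_zero (neg_ne_zero.mpr hz)
    refine ⟨Matrix.blockDiagonal (fun j => if j = (⟨0, hm⟩ : Fin m) then
      u • (1 : Matrix (Fin 2) (Fin 2) F) + w • blk (s j) (t j) (a (1, j) / a (0, j)) else 1),
      ?_, ?_⟩
    · rw [← Matrix.blockDiagonal_mul, ← Matrix.blockDiagonal_mul]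
      congr 1
      funext j
      split_ifs
      · simp [add_mul, mul_add]
      · simp
    · rw [Matrix.det_blockDiagonal, Finset.prod_eq_single (⟨0, hm⟩ : Fin m)]
      · rw [if_pos rfl, Matrix.det_fin_two]
        have h1 := hst ⟨0, hm⟩
        simp [blk]
        linear_combination huw - w ^ 2 * h1
      · intro j _ hj
        rw [if_neg hj, Matrix.det_one]
      · intro h
        exact absurd (Finset.mem_univ _) h

/-- The core: linear-map form. -/
theorem core {F : Type u} [Field F] [Fintype F] (hodd : Odd (Fintype.card F)) {n : ℕ}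
    (hn : 1 ≤ n) (Q : (Fin n → F) → F) (hQ : Cfsg.Geo.IsNondegenerateQuadraticForm Q)
    (X : Matrix (Fin n) (Fin n) F) (z : F) (hz : z ≠ 0) (hX : X * X = z • 1)
    (hdet : X.det = 1) :
    ∃ Gl yl : (Fin n → F) →ₗ[F] (Fin n → F), LinearMap.det Gl = 1 ∧
      Matrix.toLin' X ∘ₗ Gl = Gl ∘ₗ yl ∧ ∀ v, Q (yl v) = z * Q v := by
  classical
  have h2 : (2 : F) ≠ 0 := two_ne_zero_of_odd_card hodd
  have hxl : ∀ v, Matrix.toLin' X (Matrix.toLin' X v) = z • v := by
    intro v
    rw [← LinearMap.comp_apply, ← Matrix.toLin'_mul, hX]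
    simp
  by_cases hsq : IsSquare z
  · obtain ⟨l, rfl⟩ := hsq
    have hl : l ≠ 0 := fun h => hz (by rw [h, mul_zero])
    obtain ⟨a₀, b₀, c, hcl, hcr⟩ := eig_basis (Matrix.toLin' X) l hl h2 hxl
    let e : Fin n ≃ Fin a₀ ⊕ Fin b₀ := (c.indexEquiv (Pi.basisFun F (Fin n))).symm
    obtain ⟨b, a, ha, hform⟩ := orth_basis Q h2 hQ e
    refine fin_l Q b a hform (Matrix.toLin' X) (l * l)
      (Matrix.diagonal (Sum.elim (fun _ => l) (fun _ => -l))) ?_ (b.equiv c (Equiv.refl _)) ?_ ?_
    · intro τ
      rw [Finset.mul_sum]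
      apply Finset.sum_congr rfl
      intro k _
      rw [Matrix.mulVec_diagonal]
      rcases k with i | j <;> simp <;> ring
    · intro v
      have hh : Matrix.toLin' X ∘ₗ (b.equiv c (Equiv.refl _) : (Fin n → F) →ₗ[F] (Fin n → F)) =
          (b.equiv c (Equiv.refl _) : (Fin n → F) →ₗ[F] (Fin n → F)) ∘ₗ
            Matrix.toLin b b (Matrix.diagonal (Sum.elim (fun _ => l) (fun _ => -l))) := by
        apply b.ext
        intro k
        simp only [LinearMap.comp_apply, LinearEquiv.coe_coe, Basis.equiv_apply,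
          Equiv.refl_apply, Matrix.toLin_self, map_sum, map_smul, Matrix.diagonal_apply]
        rw [Finset.sum_eq_single k]
        · rw [if_pos rfl]
          rcases k with i | j
          · exact hcl i
          · exact hcr j
        · intro k' _ hk'
          rw [if_neg hk', zero_smul]
        · intro h
          exact absurd (Finset.mem_univ _) h
      exact LinearMap.congr_fun hh v
    · intro d hd
      refine ⟨Matrix.diagonal (fun k => if k = e ⟨0, by omega⟩ then d else 1), ?_, ?_⟩
      · rw [Matrix.diagonal_mul_diagonal, Matrix.diagonal_mul_diagonal]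
        congr 1
        funext k
        ring
      · rw [Matrix.det_diagonal, Finset.prod_ite_eq']
        simp
  · have heven : Even n := by
      by_contra hne
      rw [Nat.not_even_iff_odd] at hne
      obtain ⟨k, hk⟩ := hne
      have h1 := congrArg Matrix.det hX
      rw [Matrix.det_mul, hdet, Matrix.det_smul, Matrix.det_one, Fintype.card_fin] at h1
      apply hsq
      refine ⟨(z ^ k)⁻¹, ?_⟩
      have h3 : z ^ (2 * k + 1) = 1 := by
        rw [← hk]
        simpa using h1.symm
      have hzk : z ^ k ≠ 0 := pow_ne_zero k hz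
      field_simp
      linear_combination h3
    obtain ⟨m, hm⟩ := heven
    have hmpos : 0 < m := by omega
    let e : Fin n ≃ Fin 2 × Fin m :=
      (finCongr (by omega : n = 2 * m)).trans finProdFinEquiv.symm
    obtain ⟨b, a, ha, hform⟩ := orth_basis Q h2 hQ e
    obtain ⟨Ym, hYY, hsim, hC⟩ := caseB_model hodd hmpos a ha z hz
    have hx' : Matrix.toLin' X * Matrix.toLin' X = z • 1 := by
      refine LinearMap.ext fun v => ?_
      rw [Module.End.mul_apply, hxl]
      rfl
    have hy' : Matrix.toLin b b Ym * Matrix.toLin b b Ym = z • 1 := by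
      rw [Module.End.mul_eq_comp, ← Matrix.toLin_mul b b b, hYY, map_smul, Matrix.toLin_one]
      rfl
    obtain ⟨e', he'⟩ := conj_of_sq (Matrix.toLin' X) (Matrix.toLin b b Ym) z hsq hx' hy' rfl
    refine fin_l Q b a hform (Matrix.toLin' X) z Ym hsim e'.symm ?_ hC
    intro v
    apply e'.injective
    rw [he', LinearEquiv.apply_symm_apply, LinearEquiv.apply_symm_apply]

/-- [INV] every involution of `PSL_n(q)`, `q` odd, is conjugate into the similarity group. -/
theorem pkgInv : Cfsg.Agent.Lib.Helper58.QSim.PkgInv.{u} := by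
  intro F _ _ n Q hodd hn hQ x hx
  classical
  obtain ⟨hSL, ⟨z, hz⟩, -⟩ := hx
  have hdet : (x : Matrix (Fin n) (Fin n) F).det = 1 := by
    have h1 : Matrix.GeneralLinearGroup.det x = 1 := hSL
    have h2 := congrArg Units.val h1
    simpa using h2
  have hX : (x : Matrix (Fin n) (Fin n) F) * (x : Matrix (Fin n) (Fin n) F) = z • 1 := by
    rw [← hz, pow_two, Units.val_mul]
  have hz0 : z ≠ 0 := by
    rintro rfl
    have h1 := congrArg Matrix.det hX
    haveI : Nonempty (Fin n) := ⟨⟨0, by omega⟩⟩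
    rw [Matrix.det_mul, hdet, zero_smul, Matrix.det_zero] at h1
    simp at h1
  obtain ⟨Gl, yl, hGdet, hcomm, hsim⟩ := core hodd (by omega) Q hQ _ z hz0 hX hdet
  have hGd : (LinearMap.toMatrix' Gl).det = 1 := by
    rw [LinearMap.det_toMatrix']
    exact hGdet
  let g : GL (Fin n) F := Matrix.GeneralLinearGroup.mkOfDetNeZero (LinearMap.toMatrix' Gl)
    (by rw [hGd]; exact one_ne_zero)
  have hg : (g : Matrix (Fin n) (Fin n) F) = LinearMap.toMatrix' Gl := rfl
  refine ⟨g, ?_, ?_⟩
  · show Matrix.GeneralLinearGroup.det g = 1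
    apply Units.ext
    rw [Matrix.GeneralLinearGroup.val_det_apply, hg, hGd, Units.val_one]
  · refine ⟨Units.mk0 z hz0, fun v => ?_⟩
    have hmat : ((g⁻¹ * x * g : GL (Fin n) F) : Matrix (Fin n) (Fin n) F) =
        LinearMap.toMatrix' yl := by
      have h1 : (x : Matrix (Fin n) (Fin n) F) * LinearMap.toMatrix' Gl =
          LinearMap.toMatrix' Gl * LinearMap.toMatrix' yl := by
        have h3 := congrArg LinearMap.toMatrix' hcomm
        rw [LinearMap.toMatrix'_comp, LinearMap.toMatrix'_comp, LinearMap.toMatrix'_toLin'] at h3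
        exact h3
      rw [Units.val_mul, Units.val_mul, hg, mul_assoc, h1, ← mul_assoc, ← hg, ← Units.val_mul,
        inv_mul_cancel, Units.val_one, one_mul]
    rw [hmat, LinearMap.toMatrix'_mulVec, Units.val_mk0]
    exact hsim v

end Cfsg.Agent.Lib.Helper97.QSim
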